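import Cfsg.Agent.Lib.Recog.SporBound.Fi22Inv.Checks
import Cfsg.Agent.Lib.Recog.SporBound.Fi22Aut.Main

set_option autoImplicit false
set_option maxRecDepth 20000

/-! Every automorphism of Fi22 of order two fixes a transposition (owner: helper6). -/

namespace CfsgLib.Recog.SporBound.Fi22Inv

open Cfsg CfsgLib.ThreeTrans.CosetIndex
open CfsgLib.Recog.SporBound.Fi22Aut
open CfsgLib.Recog.SporBound.Fi22Group (a act finite_fi22)
open CfsgLib.Recog.SporBound.Fi22U6 (origin)
open Cfsg.Agent.S1687 (fits gens)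

local notation "G" => Cfsg.Spor.Fi22

/-- An involution on the rows, without fixed points, compatible with the transpositions, and moving each row
to a commuting one. -/
structure Good (φ : Row → Row) : Prop where
  inv : ∀ r, φ (φ r) = r
  ne : ∀ r, φ r ≠ r
  adj : ∀ r, com r (φ r)
  pres : ∀ r s, com (φ r) (φ s) ↔ com r s
  equi : ∀ p r, φ (act (T p) r) = act (T (φ p)) (φ r)

theorem Good.conj {φ : Row → Row} (h : Good φ) (g : G) : Good fun r => act g⁻¹ (φ (act g r)) := by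
  have e1 : ∀ r, act g (act g⁻¹ r) = r := fun r => by
    rw [← Equiv.Perm.mul_apply, ← map_mul, mul_inv_cancel, map_one, Equiv.Perm.one_apply]
  refine ⟨fun r => ?_, fun r hr => h.ne (act g r) ?_, fun r => ?_, fun r s => ?_, fun p r => ?_⟩
  · simp only [e1, h.inv]
    rw [← Equiv.Perm.mul_apply, ← map_mul, inv_mul_cancel, map_one, Equiv.Perm.one_apply]
  · have := congrArg (act g) hr
    rwa [e1] at this
  · rw [← com_act g, e1]; exact h.adj _
  · simp only [com_act]; rw [h.pres, com_act]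
  · have hr : act g (act (T p) r) = act (T (act g p)) (act g r) := by
      rw [T_equiv, ← Equiv.Perm.mul_apply, ← map_mul, ← Equiv.Perm.mul_apply, ← map_mul]
      congr 2; group
    show act g⁻¹ (φ (act g (act (T p) r))) = _
    rw [hr, h.equi, T_equiv, ← Equiv.Perm.mul_apply, ← map_mul, ← Equiv.Perm.mul_apply, ← map_mul]
    congr 2; group

/-- The pairs lie on the graph of the map. -/
def Agree (φ : Row → Row) (L : List (ℕ × ℕ)) : Prop :=
  ∀ e ∈ L, ∃ p : Row, (p : ℕ) = e.1 ∧ ((φ p : Row) : ℕ) = e.2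

theorem valid_of {φ : Row → Row} (h : Good φ) {L : List (ℕ × ℕ)} (hL : Agree φ L) (u : Row) :
    validB L u (φ u) = true := by
  have hB : ∀ a b c d : Row, (com a b ↔ com c d) → (comB (a : ℕ) b == comB (c : ℕ) d) = true := by
    intro a b c d e
    rw [beq_iff_eq, Bool.eq_iff_iff, comB_iff, comB_iff]
    exact e
  have sy : ∀ a b : Row, com a b ↔ com b a := fun a b => by rw [com_iff, com_iff]; exact eq_comm
  simp only [validB, Bool.and_eq_true, Bool.not_eq_true', List.all_eq_true]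
  refine ⟨⟨Bool.eq_false_iff.2 fun e => h.ne u (Fin.ext (Nat.eq_of_beq_eq_true e)), (comB_iff _ _).2 (h.adj u)⟩,
    fun e he => ?_⟩
  obtain ⟨p, hp1, hp2⟩ := hL e he
  rw [← hp1, ← hp2]
  refine ⟨⟨?_, hB _ _ _ _ (h.pres p u).symm⟩, hB _ _ _ _ ?_⟩
  · rw [beq_iff_eq, Bool.eq_iff_iff, Nat.beq_eq, Nat.beq_eq, ← Fin.ext_iff, ← Fin.ext_iff]
    exact ⟨fun e => e ▸ rfl, fun e => by rw [← h.inv u, e, h.inv]⟩
  · rw [← h.pres p (φ u), h.inv]

theorem img_spec {φ : Row → Row} (h : Good φ) {L : List (ℕ × ℕ)} (hL : Agree φ L) {i j : ℕ} (hi : i < L.length)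
    (hj : j < L.length) : ∃ w : Row, (w : ℕ) = fstI L i j ∧ ((φ w : Row) : ℕ) = sndI L i j := by
  obtain ⟨p, hp1, hp2⟩ := hL _ (List.getElem_mem hi)
  obtain ⟨r, hr1, hr2⟩ := hL _ (List.getElem_mem hj)
  refine ⟨act (T p) r, ?_, ?_⟩
  · simp only [fstI, tri, List.getD_eq_getElem _ _ hi, List.getD_eq_getElem _ _ hj]
    rw [← trace_pal, hp1, hr1]
  · simp only [sndI, tri, List.getD_eq_getElem _ _ hi, List.getD_eq_getElem _ _ hj]
    rw [h.equi, ← trace_pal, hp2, hr2]

theorem Agree.pair {φ : Row → Row} (h : Good φ) {L : List (ℕ × ℕ)} (hL : Agree φ L) {u s : Row} (e : φ u = s) :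
    Agree φ (L ++ [((u : ℕ), (s : ℕ)), ((s : ℕ), (u : ℕ))]) := by
  intro x hx
  simp only [List.mem_append, List.mem_cons, List.not_mem_nil, or_false] at hx
  rcases hx with hx | rfl | rfl
  · exact hL x hx
  · exact ⟨u, rfl, by rw [e]⟩
  · exact ⟨s, rfl, by rw [← e, h.inv]⟩

theorem sound : ∀ (t : Tree) (L X : List (ℕ × ℕ)), chk t L X = true → ∀ φ : Row → Row, Good φ → Agree φ L →
    (∀ e ∈ X, ∀ p : Row, (p : ℕ) = e.1 → ((φ p : Row) : ℕ) ≠ e.2) → False
  | .dead i j, L, X, hc, φ, h, hL, _ => by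
    simp only [chk, Bool.and_eq_true, Nat.blt_eq, Bool.not_eq_true'] at hc
    obtain ⟨w, hw1, hw2⟩ := img_spec h hL hc.1.1 hc.1.2
    have := valid_of h hL w
    rw [hw1, hw2, hc.2] at this
    exact Bool.noConfusion this
  | .der i j t, L, X, hc, φ, h, hL, _ => by
    simp only [chk, Bool.and_eq_true, Nat.blt_eq] at hc
    obtain ⟨w, hw1, hw2⟩ := img_spec h hL hc.1.1 hc.1.2
    have hA := hL.pair h (u := w) (s := φ w) rfl
    rw [hw1, hw2] at hA
    exact sound t _ [] hc.2 φ h hA fun e he => absurd he List.not_mem_nil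
  | .kid u s t nxt, L, X, hc, φ, h, hL, hX => by
    simp only [chk, Bool.and_eq_true, Nat.blt_eq] at hc
    obtain ⟨⟨⟨hu, hs⟩, ht⟩, hn⟩ := hc
    by_cases e : φ ⟨u, hu⟩ = ⟨s, hs⟩
    · exact sound t _ [] ht φ h (hL.pair h e) fun e he => absurd he List.not_mem_nil
    · refine sound nxt L _ hn φ h hL fun x hx p hp => ?_
      rcases List.mem_cons.1 hx with rfl | hx
      · intro e2
        exact e (by rw [show (⟨u, hu⟩ : Row) = p from Fin.ext hp.symm]; exact Fin.ext e2)
      · exact hX x hx p hp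
  | .fin u, L, X, hc, φ, h, hL, hX => by
    simp only [chk, Bool.and_eq_true, Nat.blt_eq] at hc
    have hall := List.all_eq_true.1 hc.2 _ (List.mem_range.2 (φ ⟨u, hc.1⟩).2)
    have hv : validB L u ((φ ⟨u, hc.1⟩ : Row) : ℕ) = true := valid_of h hL ⟨u, hc.1⟩
    rw [hv, Bool.not_true, Bool.false_or, List.any_eq_true] at hall
    obtain ⟨e, he, he'⟩ := hall
    rw [Bool.and_eq_true, Nat.beq_eq, Nat.beq_eq] at he'
    exact hX e he ⟨u, hc.1⟩ he'.1.symm he'.2.symm
  | .orb u s m ws steps t, L, X, hc, φ, h, hL, _ => by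
    simp only [chk, Bool.and_eq_true, Nat.blt_eq, Nat.beq_eq] at hc
    obtain ⟨⟨⟨⟨⟨hu, hs⟩, hfix⟩, hm⟩, hall⟩, ht⟩ := hc
    have hall' := List.all_eq_true.1 hall _ (List.mem_range.2 (φ ⟨u, hu⟩).2)
    have hv : validB L u ((φ ⟨u, hu⟩ : Row) : ℕ) = true := valid_of h hL ⟨u, hu⟩
    rw [hv, Bool.not_true, Bool.false_or, ← hm] at hall'
    simp only [fixB, List.all_eq_true, Bool.and_eq_true, Nat.beq_eq] at hfix
    have hfix' : ∀ p ∈ u :: L.flatMap (fun e => [e.1, e.2]), ∀ w ∈ ws, FiHat3510.data.trace p w = p := by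
      intro p hp w hw
      rcases List.mem_cons.1 hp with rfl | hp
      · exact (hfix w hw).1
      · obtain ⟨e, he, hpe⟩ := List.mem_flatMap.1 hp
        simp only [List.mem_cons, List.not_mem_nil, or_false] at hpe
        rcases hpe with rfl | rfl
        · exact ((hfix w hw).2 e he).1
        · exact ((hfix w hw).2 e he).2
    obtain ⟨π, hπ, hπs⟩ := OrbitChain.exists_of_mask FiHat3510.valid act (a := a) (toPerm_gen FiHat3510.valid fits)
      hfix' ⟨s, hs⟩ steps (Nat.shiftLeft 1 s) (by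
        intro p hp
        change (1 <<< s : ℕ).testBit p = true at hp
        rw [Nat.one_shiftLeft, Nat.testBit_two_pow, decide_eq_true_eq] at hp
        exact ⟨1, one_mem _, hp⟩) _ hall'
    obtain ⟨⟨g, rfl⟩, hg⟩ := hπ
    have hπs' : act g ⟨s, hs⟩ = φ ⟨u, hu⟩ := Fin.ext hπs
    have hfx : ∀ p : Row, (p : ℕ) ∈ u :: L.flatMap (fun e => [e.1, e.2]) → act g⁻¹ p = p := fun p hp => by
      conv_lhs => rw [← hg p hp]
      rw [← Equiv.Perm.mul_apply, ← map_mul, inv_mul_cancel, map_one, Equiv.Perm.one_apply]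
    refine sound t _ [] ht _ (h.conj g) (Agree.pair (h.conj g) (fun e he => ?_) (u := ⟨u, hu⟩) (s := ⟨s, hs⟩) ?_)
      fun e he => absurd he List.not_mem_nil
    · obtain ⟨p, hp1, hp2⟩ := hL e he
      have hm1 : (p : ℕ) ∈ u :: L.flatMap (fun e => [e.1, e.2]) :=
        List.mem_cons_of_mem _ (List.mem_flatMap.2 ⟨e, he, by simp [hp1]⟩)
      have hm2 : ((φ p : Row) : ℕ) ∈ u :: L.flatMap (fun e => [e.1, e.2]) :=
        List.mem_cons_of_mem _ (List.mem_flatMap.2 ⟨e, he, by simp [hp2]⟩)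
      refine ⟨p, hp1, ?_⟩
      show ((act g⁻¹ (φ (act g p)) : Row) : ℕ) = _
      rw [show act g p = p from hg p hm1, hfx _ hm2, hp2]
    · show act g⁻¹ (φ (act g ⟨u, hu⟩)) = ⟨s, hs⟩
      rw [show act g ⟨u, hu⟩ = ⟨u, hu⟩ from hg _ List.mem_cons_self, ← hπs', ← Equiv.Perm.mul_apply, ← map_mul,
        inv_mul_cancel, map_one, Equiv.Perm.one_apply]

theorem no_good (φ : Row → Row) : ¬ Good φ := fun h =>
  sound tree [] [] tree_ok φ h (fun e he => absurd he List.not_mem_nil) fun e he => absurd he List.not_mem_nil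

theorem T_mem (r : Row) : T r ∈ conjugatesOf (a 0) := isConj_iff.2 ⟨gr r, rfl⟩

theorem exists_row {d : G} (hd : d ∈ conjugatesOf (a 0)) : ∃ r : Row, T r = d := by
  obtain ⟨g, rfl⟩ := isConj_iff.1 hd
  exact ⟨act g origin, T_act g⟩

/-- An automorphism of square one fixes a transposition. -/
theorem exists_fixed_row (α : G ≃* G) (h2 : ∀ x, α (α x) = x) : ∃ r : Row, α (T r) = T r := by
  by_contra hno
  push Not at hno
  obtain ⟨r₀, hr₀⟩ := image_a α
  have hD : ∀ r : Row, ∃ s : Row, α (T r) = T s := fun r => ⟨act (α (gr r)) r₀, by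
    rw [T_equiv, ← hr₀, ← map_inv, ← map_mul, ← map_mul]; rfl⟩
  choose φ hφ using hD
  have hinv : ∀ r, φ (φ r) = r := fun r => T_inj (by rw [← hφ, ← hφ, h2])
  have hequi : ∀ p r, φ (act (T p) r) = act (T (φ p)) (φ r) := fun p r => T_inj (by
    rw [← hφ, T_equiv, T_equiv, map_mul, map_mul, map_inv, hφ, hφ])
  refine no_good φ ⟨hinv, fun r e => hno r (by rw [hφ, e]), fun r => ?_, fun r s => ?_, hequi⟩
  · rcases Fi22U6.realization.1.1.2 _ (T_mem r) _ (T_mem (φ r)) with h | h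
    · refine com_iff.2 ?_
      have e := eq_inv_of_mul_eq_one_left (show T r * T (φ r) * (T r * T (φ r)) = 1 by rw [← pow_two, h])
      conv_lhs => rw [e]
      rw [mul_inv_rev, inv_eq_of_mul_eq_one_right (T_sq r), inv_eq_of_mul_eq_one_right (T_sq (φ r))]
    · exfalso
      refine hno (act (T r) (φ r)) ?_
      rw [hφ, hequi, hinv]
      congr 1
      refine T_inj ?_
      rw [T_equiv, T_equiv, inv_eq_of_mul_eq_one_right (T_sq r), inv_eq_of_mul_eq_one_right (T_sq (φ r))]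
      have e := eq_inv_of_mul_eq_one_left (show T r * T (φ r) * T r * (T (φ r) * T r * T (φ r)) = 1 by
        rw [← h, pow_succ, pow_two]; group)
      rw [mul_inv_rev, mul_inv_rev, inv_eq_of_mul_eq_one_right (T_sq r), inv_eq_of_mul_eq_one_right (T_sq (φ r)),
        ← mul_assoc] at e
      first | exact e | exact e.symm
  · rw [com_iff, com_iff, ← hφ, ← hφ, ← map_mul, ← map_mul, α.injective.eq_iff]

end CfsgLib.Recog.SporBound.Fi22Inv
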