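import Cfsg.Agent.Lib.Recog.SporBound.Fi22Inv.Data
import Cfsg.Agent.Lib.Recog.SporBound.Fi22Aut.Checks

set_option autoImplicit false
set_option maxRecDepth 20000
set_option Elab.async false

/-! Kernel check of the search for a fixed-point-free involutory automorphism of Fi22 (owner: helper6). -/

namespace CfsgLib.Recog.SporBound.Fi22Inv

open CfsgLib.ThreeTrans.CosetIndex
open CfsgLib.Recog.SporBound.Fi22Aut (comB pal)
open CfsgLib.Recog.SporBound.OrbitChain (maskFrom)

/-- The image of a row under the transposition of another. -/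
noncomputable def tri (r s : ℕ) : ℕ := FiHat3510.data.trace s (pal r)

/-- A row may be sent to another one. -/
noncomputable def validB (L : List (ℕ × ℕ)) (u s : ℕ) : Bool :=
  !Nat.beq s u && comB u s && L.all fun e =>
    (Nat.beq u e.1 == Nat.beq s e.2) && (comB e.1 u == comB e.2 s) && (comB e.1 s == comB e.2 u)

/-- The row obtained from two pairs. -/
noncomputable def fstI (L : List (ℕ × ℕ)) (i j : ℕ) : ℕ := tri (L.getD i (0, 0)).1 (L.getD j (0, 0)).1

/-- Its image. -/
noncomputable def sndI (L : List (ℕ × ℕ)) (i j : ℕ) : ℕ := tri (L.getD i (0, 0)).2 (L.getD j (0, 0)).2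

/-- The words fix the rows fixed so far. -/
noncomputable def fixB (L : List (ℕ × ℕ)) (u : ℕ) (ws : List (List ℕ)) : Bool :=
  ws.all fun w => Nat.beq (FiHat3510.data.trace u w) u && L.all fun e =>
    Nat.beq (FiHat3510.data.trace e.1 w) e.1 && Nat.beq (FiHat3510.data.trace e.2 w) e.2

/-- The check of a tree. -/
noncomputable def chk : Tree → List (ℕ × ℕ) → List (ℕ × ℕ) → Bool
  | .dead i j, L, _ => Nat.blt i L.length && Nat.blt j L.length && !validB L (fstI L i j) (sndI L i j)
  | .der i j t, L, _ => Nat.blt i L.length && Nat.blt j L.length &&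
      chk t (L ++ [(fstI L i j, sndI L i j), (sndI L i j, fstI L i j)]) []
  | .kid u s t nxt, L, X => Nat.blt u 3510 && Nat.blt s 3510 && chk t (L ++ [(u, s), (s, u)]) [] &&
      chk nxt L ((u, s) :: X)
  | .fin u, L, X => Nat.blt u 3510 && (List.range 3510).all fun x =>
      !validB L u x || X.any fun e => Nat.beq e.1 u && Nat.beq e.2 x
  | .orb u s m ws steps t, L, _ => Nat.blt u 3510 && Nat.blt s 3510 && fixB L u ws &&
      Nat.beq (maskFrom FiHat3510.data ws steps (Nat.shiftLeft 1 s)) m &&
      ((List.range 3510).all fun x => !validB L u x || m.testBit x) && chk t (L ++ [(u, s), (s, u)]) []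

theorem tree_ok : chk tree [] [] = true := by decide +kernel

end CfsgLib.Recog.SporBound.Fi22Inv
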